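import Groth.Agent.AlgzUniq.Key
import Groth.Agent.S0814
import Groth.Agent.DualCx.EssFin
import Groth.Agent.RigPts.Basic

/-!
Components of `V(p) ∩ V(I)` at an associated point, and the dimension bound on the boundary.
-/

set_option autoImplicit false
set_option maxHeartbeats 1000000
set_option linter.style.haveILetI false
set_option backward.isDefEq.respectTransparency false
set_option backward.isDefEq.respectTransparency.types false
universe u

open CategoryTheory AlgebraicGeometry TopologicalSpace Opposite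

noncomputable section

namespace Groth.Agent.AlgzUniq

variable {A : Type u} [CommRing A] [IsNoetherianRing A] {I 𝔞 : Ideal A}

/-- The dimension between two primes grows with the upper prime. -/
theorem dimBetween_mono {p q q' : PrimeSpectrum A} (h : q ≤ q') :
    Formal2.dimBetween A p.asIdeal q.asIdeal ≤ Formal2.dimBetween A p.asIdeal q'.asIdeal := by
  rw [HTLib.dimBetween_eq_krullDim, HTLib.dimBetween_eq_krullDim]
  exact Order.krullDim_le_of_strictMono (fun x : Set.Icc p q => (⟨x.1, x.2.1, x.2.2.trans h⟩ : Set.Icc p q'))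
    fun a b hab => hab

/-- A further point adds one to the dimension. -/
theorem succ_le_dimBetween {p q q' : PrimeSpectrum A} (h : q < q') {n : ℕ}
    (hn : (n : WithBot ℕ∞) ≤ Formal2.dimBetween A p.asIdeal q.asIdeal) :
    ((n + 1 : ℕ) : WithBot ℕ∞) ≤ Formal2.dimBetween A p.asIdeal q'.asIdeal := by
  rw [HTLib.dimBetween_eq_krullDim] at hn ⊢
  rw [Order.le_krullDim_iff] at hn ⊢
  obtain ⟨l, hl⟩ := hn
  let l' : LTSeries (Set.Icc p q') := l.map (fun x => ⟨x.1, x.2.1, x.2.2.trans h.le⟩) fun a b hab => hab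
  have hp : p ≤ q := l.head.2.1.trans l.head.2.2
  refine ⟨l'.snoc ⟨q', hp.trans h.le, le_rfl⟩ (lt_of_le_of_lt (show (l.last : PrimeSpectrum A) ≤ q from l.last.2.2) h),
    ?_⟩
  simp [l', hl]

section General

variable (U : (Spec (CommRingCat.of A)).Opens) {F : (↑U : Scheme.{u}).Modules} (hF : Coh.IsCoh F) {d : ℕ}
  (h₂ : Algz.StrictAbIneq A I U (Formal.completion I F) 1 (1 + d))
  {N : Type u} [AddCommGroup N] [Module A N]
  (φ : (tilde (R := CommRingCat.of A) (ModuleCat.of A N)).restrict U.ι ≅ F)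

include hF h₂ φ in
/-- The strict inequalities at an associated point next to the boundary. -/
theorem lt_dimBetween {p : PrimeSpectrum A} (hp : p.asIdeal ∈ associatedPrimes A N) (hIp : ¬ I ≤ p.asIdeal)
    {y z : PrimeSpectrum A} (hpy : p ≤ y) (hIy : I ≤ y.asIdeal) (hyU : y ∈ U) (hz : z ∉ U) (hyz : y ⋖ z) :
    ((d + 1 : ℕ) : WithBot ℕ∞) < Formal2.dimBetween A p.asIdeal z.asIdeal := by
  haveI : IsLocallyNoetherian (↑U : Scheme.{u}) := LocallyOfFiniteType.isLocallyNoetherian U.ι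
  let y' : (↑U : Scheme.{u}) := ⟨y, hyU⟩
  obtain ⟨P, v, hPp, hPc, hv, hnu, hdim⟩ := exists_stalk_ann N U F φ p.asIdeal hp y' hpy
  haveI := hPp
  have hJ : Algz.stalkIdeal I y' ≠ ⊤ := ne_top_of_le_ne_top (IsLocalRing.maximalIdeal.isMaximal _).ne_top
    (Ideal.map_le_iff_le_comap.2 fun a ha => fun hu => hnu a hu (hIy ha))
  have hJp : ¬ Algz.stalkIdeal I y' ≤ P := fun h => hIp (hPc ▸ Ideal.map_le_iff_le_comap.1 h)
  obtain ⟨Q, hQI, hQ0, hQdim⟩ := exists_depth_zero I hF y' hJ P hJp v hv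
  rw [hdim] at hQdim
  have hδ : Algz.deltaYZ A I U ⟨U.ι.base y', hIy⟩ ≤ 1 := by
    let Y := PrimeSpectrum.zeroLocus (R := A) (I : Set A)
    let yy : Y := ⟨y, hIy⟩
    let zz : Y := ⟨z, le_trans hIy hyz.le⟩
    have hspec : yy ⤳ zz := (subtype_specializes_iff _ _).2 ((PrimeSpectrum.le_iff_specializes _ _).1 hyz.le)
    let S : Algz.DSystem (Y := Y) {q | q.1 ∉ U.1} yy 0 :=
      { v := fun _ => zz
        w := fun _ => yy
        spec := fun _ => hspec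
        spec_succ := fun i => i.elim0
        start_mem := hz
        last_eq := rfl }
    refine (DeltaZ.deltaZ_le_delta S).trans ((DeltaZ.delta_le S 1 fun i => ?_).trans (by simp))
    have hc : S.c 0 ≤ 1 := DeltaZ.codimPt_le_one _ fun w h1 h2 => by
      have h1' := (PrimeSpectrum.le_iff_specializes _ _).2 ((subtype_specializes_iff _ _).1 h1)
      have h2' := (PrimeSpectrum.le_iff_specializes _ _).2 ((subtype_specializes_iff _ _).1 h2)
      rcases hyz.eq_or_eq h1' h2' with h | h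
      · exact Or.inl (Subtype.ext h)
      · exact Or.inr (Subtype.ext h)
    rw [Fin.sum_univ_one, Fin.sum_univ_zero, add_zero, if_pos (show i ≤ 0 from (Fin.fin_one_eq_zero i).le)]
    exact hc
  rcases h₂ y' hIy Q hQI with h | h
  · rw [hQ0, zero_add] at h
    exact absurd (h.trans_le hδ) (lt_irrefl _)
  · rw [hQ0, zero_add] at h
    have h' : ((1 + d : ℕ) : ℕ∞) < Order.coheight Q + 1 := h.trans_le (add_le_add le_rfl hδ)
    have h'' : ((d + 1 : ℕ) : ℕ∞) ≤ Order.coheight Q := by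
      rw [Nat.add_comm]
      by_cases htop : Order.coheight Q = ⊤
      · rw [htop]; exact le_top
      · exact (ENat.lt_add_one_iff htop).1 h'
    have h3 : ((d + 1 : ℕ) : WithBot ℕ∞) ≤ Formal2.dimBetween A p.asIdeal y.asIdeal :=
      le_trans (by exact_mod_cast h'') hQdim
    exact lt_of_lt_of_le (by exact_mod_cast Nat.lt_succ_self (d + 1)) (succ_le_dimBetween hyz.lt h3)

end General

theorem mem_punctured {q : PrimeSpectrum A} : q ∈ LocCoh.puncturedOpen A 𝔞 ↔ ¬ 𝔞 ≤ q.asIdeal := Iff.rfl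

section Punctured

variable {N : Type u} [AddCommGroup N] [Module A N] {d : ℕ} {F : (↑(LocCoh.puncturedOpen A 𝔞) : Scheme.{u}).Modules} (hF : Coh.IsCoh F)
  (h₂ : Algz.StrictAbIneq A I (LocCoh.puncturedOpen A 𝔞) (Formal.completion I F) 1 (1 + d))
  (φ : (tilde (R := CommRingCat.of A) (ModuleCat.of A N)).restrict (LocCoh.puncturedOpen A 𝔞).ι ≅ F)
  {p : PrimeSpectrum A} (hp : p.asIdeal ∈ associatedPrimes A N) (hIp : ¬ I ≤ p.asIdeal)

include hF h₂ φ hp hIp in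
/-- The bound below a point of `V(p) ∩ V(I)` outside `V(𝔞)`. -/
theorem bound_of_not_mem {w q : PrimeSpectrum A} (hpw : p ≤ w) (hIw : I ≤ w.asIdeal) (hw : ¬ 𝔞 ≤ w.asIdeal)
    (hwq : w ≤ q) (hq : 𝔞 ≤ q.asIdeal) :
    ((d + 1 : ℕ) : WithBot ℕ∞) < Formal2.dimBetween A p.asIdeal q.asIdeal := by
  obtain ⟨zI, hzI, hzq⟩ := Ideal.exists_minimalPrimes_le (sup_le (show w.asIdeal ≤ q.asIdeal from hwq) hq)
  let z : PrimeSpectrum A := ⟨zI, hzI.1.1⟩
  have hwz : w ≤ z := le_sup_left.trans hzI.1.2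
  have h𝔞z : 𝔞 ≤ z.asIdeal := le_sup_right.trans hzI.1.2
  obtain ⟨yI, ⟨hyp, hwy, hyz⟩, hmax⟩ := set_has_maximal_iff_noetherian.2 (inferInstance : IsNoetherian A A)
    {J : Ideal A | J.IsPrime ∧ w.asIdeal ≤ J ∧ J < zI} ⟨w.asIdeal, w.isPrime, le_rfl,
      lt_of_le_not_ge hwz fun h => hw (h𝔞z.trans h)⟩
  let y : PrimeSpectrum A := ⟨yI, hyp⟩
  have hyU : y ∈ LocCoh.puncturedOpen A 𝔞 := fun hy =>
    hyz.not_ge (hzI.2 ⟨hyp, sup_le hwy hy⟩ hyz.le)
  have hcov : y ⋖ z := ⟨hyz, fun c h1 h2 => hmax c.asIdeal ⟨c.isPrime, hwy.trans h1.le, h2⟩ h1⟩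
  exact lt_of_lt_of_le (lt_dimBetween _ hF h₂ φ hp hIp (hpw.trans hwy) (hIw.trans hwy) hyU
    (fun h => h h𝔞z) hcov) (dimBetween_mono (q := z) hzq)

variable [IsAdicComplete I A] (hω : ∃ ω : Dual.D A, Dual.IsDualizing A ω) (hcd : LocCoh.CdLE A I d)

include hF h₂ φ hp hIp hω hcd in
/-- No component of `V(p) ∩ V(I)` lies in `V(𝔞)` once one does not. -/
theorem not_mem_of_minimal (hr : ∃ r : Ideal A, r.IsPrime ∧ p.asIdeal ≤ r ∧ I ≤ r ∧ ¬ 𝔞 ≤ r)
    {w : Ideal A} (hw : w ∈ (p.asIdeal ⊔ I).minimalPrimes) : ¬ 𝔞 ≤ w := by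
  intro hw𝔞
  let P := p.asIdeal
  haveI hPp : P.IsPrime := p.isPrime
  let S₁ := {v ∈ (P ⊔ I).minimalPrimes | 𝔞 ≤ v}
  let S₂ := {v ∈ (P ⊔ I).minimalPrimes | ¬ 𝔞 ≤ v}
  have hfin : (P ⊔ I).minimalPrimes.Finite := Ideal.finite_minimalPrimes_of_isNoetherianRing A _
  have hfin₁ : S₁.Finite := hfin.subset fun v hv => hv.1
  have hfin₂ : S₂.Finite := hfin.subset fun v hv => hv.1
  let 𝔟₁ : Ideal A := hfin₁.toFinset.inf id
  let 𝔟₂ : Ideal A := hfin₂.toFinset.inf id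
  have hinf : ∀ (s : Finset (Ideal A)) (q : Ideal A), q.IsPrime → s.inf id ≤ q → ∃ v ∈ s, v ≤ q := fun s q hq h =>
    (Ideal.IsPrime.inf_le' (f := id) hq).1 h
  let π := Ideal.Quotient.mk P
  haveI : IsAdicComplete (I.map π) (A ⧸ P) := RigPts.quotient_setup I P
  have hωB := DualCx.EssFin.of_surjective (A := A) hω π Ideal.Quotient.mk_surjective
  have hcdB : LocCoh.CdLE (A ⧸ P) (I.map π) d := fun M _ _ i hi => by
    letI : Module A M := Module.compHom M π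
    haveI : IsScalarTower A (A ⧸ P) M := ⟨fun r x m => by rw [Algebra.smul_def, mul_smul]; rfl⟩
    obtain ⟨φ', -⟩ := LocH.exists_semilinearEquiv (R := A) (R' := A ⧸ P) (I := I) i M
    haveI : Subsingleton ↑((CategoryTheory.Functor.obj (localCohomology I i)) (ModuleCat.of A M)) := hcd M i hi
    exact φ'.toEquiv.subsingleton
  have hle : I.map π ≤ (𝔟₁ ⊔ 𝔟₂).map π := Ideal.map_mono (le_trans
    (Finset.le_inf fun v hv => le_sup_right.trans (hfin₁.mem_toFinset.1 hv).1.1.2) le_sup_left)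
  have hbound : ∀ q : PrimeSpectrum A, p ≤ q → 𝔟₁ ≤ q.asIdeal → 𝔟₂ ≤ q.asIdeal →
      ((d + 1 : ℕ) : WithBot ℕ∞) < Formal2.dimBetween A P q.asIdeal := by
    intro q hpq h1 h2
    obtain ⟨v₁, hv₁, hv₁q⟩ := hinf _ _ q.isPrime h1
    obtain ⟨v₂, hv₂, hv₂q⟩ := hinf _ _ q.isPrime h2
    obtain ⟨⟨⟨hv₂p, hv₂le⟩, -⟩, hv₂𝔞⟩ := hfin₂.mem_toFinset.1 hv₂
    exact bound_of_not_mem hF h₂ φ hp hIp (w := ⟨v₂, hv₂p⟩) (le_sup_left.trans hv₂le) (le_sup_right.trans hv₂le)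
      hv₂𝔞 hv₂q ((hfin₁.mem_toFinset.1 hv₁).2.trans hv₁q)
  have hconn := S0814.result (A ⧸ P) (I.map π) ((𝔟₁ ⊔ 𝔟₂).map π) hle hωB d hcdB
    (fun m hm _ q hq _ hbq => by
      have hm0 : m = ⊥ := le_bot_iff.1 (hm.2 ⟨Ideal.isPrime_bot, bot_le⟩ bot_le)
      subst hm0
      let q' : PrimeSpectrum A := ⟨q.comap π, Ideal.IsPrime.comap π⟩
      have hb : 𝔟₁ ⊔ 𝔟₂ ≤ q'.asIdeal := Ideal.map_le_iff_le_comap.1 hbq
      have hpq : p ≤ q' := fun a ha => by
        show π a ∈ q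
        rw [Ideal.Quotient.eq_zero_iff_mem.2 ha]
        exact zero_mem q
      refine (hbound q' hpq (le_sup_left.trans hb) (le_sup_right.trans hb)).trans_le ?_
      rw [HTLib.dimBetween_eq_krullDim (p := p) (q := q'),
        show (⊥ : Ideal (A ⧸ P)) = (⟨⊥, Ideal.isPrime_bot⟩ : PrimeSpectrum (A ⧸ P)).asIdeal from rfl,
        HTLib.dimBetween_eq_krullDim (q := ⟨q, hq⟩)]
      refine Order.krullDim_le_of_strictMono (fun x : Set.Icc p q' => (⟨⟨x.1.asIdeal.map π,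
        Ideal.map_isPrime_of_surjective Ideal.Quotient.mk_surjective (by rw [Ideal.mk_ker]; exact x.2.1)⟩,
        bot_le, Ideal.map_le_iff_le_comap.2 x.2.2⟩ : Set.Icc (⟨⊥, Ideal.isPrime_bot⟩ : PrimeSpectrum (A ⧸ P)) ⟨q, hq⟩))
        fun a b hab => ?_
      show a.1.asIdeal.map π < b.1.asIdeal.map π
      refine lt_of_le_not_ge (Ideal.map_mono hab.le) fun h => hab.not_ge ?_
      have h1 := Ideal.comap_mono (f := π) h
      rwa [Ideal.comap_map_of_surjective _ Ideal.Quotient.mk_surjective, ← RingHom.ker_eq_comap_bot, Ideal.mk_ker,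
        Ideal.comap_map_of_surjective _ Ideal.Quotient.mk_surjective, ← RingHom.ker_eq_comap_bot, Ideal.mk_ker,
        sup_eq_left.2 (show P ≤ a.1.asIdeal from a.2.1), sup_eq_left.2 (show P ≤ b.1.asIdeal from b.2.1)] at h1)
    (fun V hV hne _ => ⟨hne, (PreirreducibleSpace.isPreirreducible_univ.open_subset hV
      (Set.subset_univ V)).isPreconnected⟩)
  -- two nonempty disjoint closed pieces
  obtain ⟨r, hrp, hPr, hIr, hr𝔞⟩ := hr
  obtain ⟨v, hv, hvr⟩ := Ideal.exists_minimalPrimes_le (sup_le hPr hIr)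
  have hv𝔞 : ¬ 𝔞 ≤ v := fun h => hr𝔞 (h.trans hvr)
  have hb₁w : 𝔟₁ ≤ w := Finset.inf_le (f := id) (hfin₁.mem_toFinset.2 ⟨hw, hw𝔞⟩)
  have hb₂v : 𝔟₂ ≤ v := Finset.inf_le (f := id) (hfin₂.mem_toFinset.2 ⟨hv, hv𝔞⟩)
  have hb₂w : ¬ 𝔟₂ ≤ w := fun h => by
    obtain ⟨u', hu', hle'⟩ := hinf _ _ hw.1.1 h
    obtain ⟨hu'm, hu'𝔞⟩ := hfin₂.mem_toFinset.1 hu'
    exact hu'𝔞 (hw𝔞.trans (hw.2 hu'm.1 hle'))
  have hb₁v : ¬ 𝔟₁ ≤ v := fun h => by
    obtain ⟨u', hu', hle'⟩ := hinf _ _ hv.1.1 h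
    exact hv𝔞 ((hfin₁.mem_toFinset.1 hu').2.trans hle')
  let mkB : ∀ x : Ideal A, x.IsPrime → P ≤ x → PrimeSpectrum (A ⧸ P) := fun x hx hPx =>
    ⟨x.map π, haveI := hx; Ideal.map_isPrime_of_surjective Ideal.Quotient.mk_surjective (by rw [Ideal.mk_ker]; exact hPx)⟩
  have hmem : ∀ (x : Ideal A) (hx : x.IsPrime) (hPx : P ≤ x) (b : Ideal A),
      b.map π ≤ (mkB x hx hPx).asIdeal ↔ b ≤ x := fun x hx hPx b => by
    show b.map π ≤ x.map π ↔ b ≤ x
    rw [Ideal.map_le_iff_le_comap, Ideal.comap_map_of_surjective _ Ideal.Quotient.mk_surjective,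
      ← RingHom.ker_eq_comap_bot, Ideal.mk_ker, sup_eq_left.2 hPx]
  have hPw : P ≤ w := le_sup_left.trans hw.1.2
  have hPv : P ≤ v := le_sup_left.trans hv.1.2
  let W := mkB w hw.1.1 (le_sup_left.trans hw.1.2)
  let V' := mkB v hv.1.1 (le_sup_left.trans hv.1.2)
  let O₁ : Set (PrimeSpectrum (A ⧸ P)) := (PrimeSpectrum.zeroLocus ↑(𝔟₁.map π))ᶜ
  let O₂ : Set (PrimeSpectrum (A ⧸ P)) := (PrimeSpectrum.zeroLocus ↑(𝔟₂.map π))ᶜ
  obtain ⟨Q, ⟨hQI, -⟩, hQ1, hQ2⟩ := hconn O₁ O₂ (PrimeSpectrum.isClosed_zeroLocus _).isOpen_compl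
    (PrimeSpectrum.isClosed_zeroLocus _).isOpen_compl
    (fun Q hQ => by
      by_contra hne
      simp only [Set.mem_union, O₁, O₂, Set.mem_compl_iff, not_or, not_not, PrimeSpectrum.mem_zeroLocus,
        SetLike.coe_subset_coe] at hne
      refine hQ.2 ?_
      rw [PrimeSpectrum.mem_zeroLocus, SetLike.coe_subset_coe, Ideal.map_sup]
      exact sup_le hne.1 hne.2)
    ⟨V', ⟨(hmem _ hv.1.1 hPv I).2 (le_sup_right.trans hv.1.2), fun h => hb₁v (le_sup_left.trans ((hmem _ hv.1.1 hPv _).1 h))⟩,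
      fun h => hb₁v ((hmem _ hv.1.1 hPv _).1 h)⟩
    ⟨W, ⟨(hmem _ hw.1.1 hPw I).2 (le_sup_right.trans hw.1.2), fun h => hb₂w (le_sup_right.trans ((hmem _ hw.1.1 hPw _).1 h))⟩,
      fun h => hb₂w ((hmem _ hw.1.1 hPw _).1 h)⟩
  obtain ⟨m, hm, hmQ⟩ := Ideal.exists_minimalPrimes_le (I := P ⊔ I) (J := Q.asIdeal.comap π)
    (sup_le (fun a ha => by
      show π a ∈ Q.asIdeal
      rw [Ideal.Quotient.eq_zero_iff_mem.2 ha]
      exact zero_mem _) (Ideal.map_le_iff_le_comap.1 hQI))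
  by_cases hm𝔞 : 𝔞 ≤ m
  · exact hQ1 (Ideal.map_le_iff_le_comap.2 ((Finset.inf_le (f := id) (hfin₁.mem_toFinset.2 ⟨hm, hm𝔞⟩)).trans hmQ))
  · exact hQ2 (Ideal.map_le_iff_le_comap.2 ((Finset.inf_le (f := id) (hfin₂.mem_toFinset.2 ⟨hm, hm𝔞⟩)).trans hmQ))

include hF h₂ φ hp hIp hω hcd in
/-- The dimension hypothesis of the algebraisation theorem. -/
theorem bound (hr : ∃ r : Ideal A, r.IsPrime ∧ p.asIdeal ≤ r ∧ I ≤ r ∧ ¬ 𝔞 ≤ r) (hI𝔞 : I ≤ 𝔞)
    {q : PrimeSpectrum A} (hpq : p ≤ q) (hq : 𝔞 ≤ q.asIdeal) :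
    ((d + 1 : ℕ) : WithBot ℕ∞) < Formal2.dimBetween A p.asIdeal q.asIdeal := by
  obtain ⟨w, hw, hwq⟩ := Ideal.exists_minimalPrimes_le (sup_le (show p.asIdeal ≤ q.asIdeal from hpq) (hI𝔞.trans hq))
  exact bound_of_not_mem hF h₂ φ hp hIp (w := ⟨w, hw.1.1⟩) (le_sup_left.trans hw.1.2) (le_sup_right.trans hw.1.2)
    (not_mem_of_minimal hF h₂ φ hp hIp hω hcd hr hw) hwq hq

end Punctured

end Groth.Agent.AlgzUniq
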