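import Groth.Agent.ResExt.Completion
import Mathlib.RingTheory.AdicCompletion.Exactness
import Mathlib.RingTheory.AdicCompletion.AsTensorProduct
import Mathlib.RingTheory.AdicCompletion.Completeness
import Mathlib.RingTheory.Ideal.KrullsHeightTheorem
import Mathlib.RingTheory.Ideal.AssociatedPrime.Basic
import Mathlib.RingTheory.KrullDimension.Basic

/-!
Associated primes of a completed module coming from an element with prime annihilator, with their dimension.
-/

set_option autoImplicit false
universe u

namespace Groth.Agent.AlgzUniq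

open IsLocalRing

variable {B : Type u} [CommRing B] [IsLocalRing B] [IsNoetherianRing B] (J : Ideal B)

/-- The dimension of a closed subscheme of the completion. -/
theorem ringKrullDim_quotient_map_le (hJ : J ≠ ⊤) (p : Ideal B) :
    ringKrullDim (AdicCompletion J B ⧸ p.map (algebraMap B (AdicCompletion J B))) ≤ ringKrullDim (B ⧸ p) := by
  haveI : IsNoetherianRing (AdicCompletion J B) :=
    ResExt.isNoetherianRing_adicCompletion J (IsNoetherian.noetherian _)
  by_cases hp : p = ⊤
  · subst hp
    rw [Ideal.map_top]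
    haveI : Subsingleton (AdicCompletion J B ⧸ (⊤ : Ideal (AdicCompletion J B))) :=
      Ideal.Quotient.subsingleton_iff.2 rfl
    rw [ringKrullDim_eq_bot_of_subsingleton]
    exact bot_le
  have hpm : p ≤ maximalIdeal B := le_maximalIdeal hp
  set C := AdicCompletion J B
  let π : C →+* C ⧸ p.map (algebraMap B C) := Ideal.Quotient.mk _
  haveI : IsAdicComplete J C := AdicCompletion.isAdicComplete (IsNoetherian.noetherian J)
  haveI : IsAdicComplete (J.map (algebraMap B C)) C := (IsAdicComplete.map_algebraMap_iff J C).2 inferInstance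
  have hjac : J.map (algebraMap B C) ≤ Ideal.jacobson ⊥ := IsAdicComplete.le_jacobson_bot _
  have happrox : ∀ y : C, ∃ a : B, y - algebraMap B C a ∈ J.map (algebraMap B C) := fun y => by
    obtain ⟨a, ha⟩ := Submodule.Quotient.mk_surjective _ (y.val 1)
    refine ⟨a, ?_⟩
    rw [← pow_one (J.map (algebraMap B C)), ← Ideal.map_pow, ← Submodule.restrictScalars_mem B,
      ← Ideal.smul_top_eq_map, AdicCompletion.pow_smul_top_eq_ker_eval (IsNoetherian.noetherian J),
      LinearMap.mem_ker, map_sub, sub_eq_zero, AdicCompletion.eval_apply, ← ha, AdicCompletion.eval_apply,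
      AdicCompletion.algebraMap_apply]
    rfl
  refine (ringKrullDim_le_iff_isMaximal_height_le _).2 fun N hN => ?_
  haveI := hN
  haveI : (N.comap π).IsMaximal := Ideal.comap_isMaximal_of_surjective π Ideal.Quotient.mk_surjective
  have hJN : J.map (algebraMap B C) ≤ N.comap π :=
    hjac.trans (by rw [Ideal.jacobson]; exact sInf_le ⟨bot_le, inferInstance⟩)
  have hsurj : Function.Surjective ((Ideal.Quotient.mk (N.comap π)).comp (algebraMap B C)) := fun z => by
    obtain ⟨y, rfl⟩ := Ideal.Quotient.mk_surjective z
    obtain ⟨a, ha⟩ := happrox y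
    exact ⟨a, ((Ideal.Quotient.eq).2 (hJN ha)).symm⟩
  have hcomap : (N.comap π).comap (algebraMap B C) = maximalIdeal B := by
    letI := Ideal.Quotient.field (N.comap π)
    refine IsLocalRing.eq_maximalIdeal ?_
    have h : (N.comap π).comap (algebraMap B C) =
        RingHom.ker ((Ideal.Quotient.mk (N.comap π)).comp (algebraMap B C)) := by
      rw [← RingHom.comap_ker, Ideal.mk_ker]
    rw [h]
    exact RingHom.ker_isMaximal_of_surjective _ hsurj
  -- the point of the quotient of `B`
  let m : Ideal (B ⧸ p) := (maximalIdeal B).map (Ideal.Quotient.mk p)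
  haveI : m.IsPrime := Ideal.map_isPrime_of_surjective Ideal.Quotient.mk_surjective (by rwa [Ideal.mk_ker])
  have hlo : N.LiesOver m := ⟨by
    refine Ideal.comap_injective_of_surjective _ Ideal.Quotient.mk_surjective ?_
    rw [Ideal.comap_map_of_surjective _ Ideal.Quotient.mk_surjective, ← RingHom.ker_eq_comap_bot, Ideal.mk_ker,
      sup_eq_left.2 hpm, Ideal.under_def, Ideal.comap_comap, ← hcomap, Ideal.comap_comap]
    rfl⟩
  have h0 : (N.map (Ideal.Quotient.mk (m.map (algebraMap (B ⧸ p) (C ⧸ p.map (algebraMap B C)))))).height = 0 := by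
    have hNle : N ≤ m.map (algebraMap (B ⧸ p) (C ⧸ p.map (algebraMap B C))) := by
      intro z hz
      obtain ⟨y, rfl⟩ := Ideal.Quotient.mk_surjective z
      obtain ⟨a, ha⟩ := happrox y
      have hy : y ∈ N.comap π := hz
      have ham : a ∈ maximalIdeal B := by
        rw [← hcomap, Ideal.mem_comap]
        have := sub_mem hy (hJN ha)
        rwa [sub_sub_cancel] at this
      have hmap : (maximalIdeal B).map (π.comp (algebraMap B C)) ≤
          m.map (algebraMap (B ⧸ p) (C ⧸ p.map (algebraMap B C))) := by
        refine le_of_eq ?_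
        rw [Ideal.map_map]
        rfl
      refine hmap ?_
      have h1 : π y - π (algebraMap B C a) ∈ (maximalIdeal B).map (π.comp (algebraMap B C)) := by
        rw [← map_sub, ← Ideal.map_map]
        exact Ideal.mem_map_of_mem π (Ideal.map_mono (le_maximalIdeal hJ) ha)
      have := add_mem h1 (Ideal.mem_map_of_mem (π.comp (algebraMap B C)) ham)
      rwa [RingHom.comp_apply, sub_add_cancel] at this
    have hle : m.map (algebraMap (B ⧸ p) (C ⧸ p.map (algebraMap B C))) ≤ N :=
      Ideal.map_le_iff_le_comap.2 (hlo.over).le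
    have heq := le_antisymm hNle hle
    haveI : (m.map (algebraMap (B ⧸ p) (C ⧸ p.map (algebraMap B C)))).IsMaximal := heq ▸ hN
    rw [heq, Ideal.map_quotient_self]
    letI := Ideal.Quotient.field (m.map (algebraMap (B ⧸ p) (C ⧸ p.map (algebraMap B C))))
    exact Ideal.height_bot
  have h := Ideal.height_le_height_add_of_liesOver m N
  rw [h0, add_zero] at h
  calc (N.height : WithBot ℕ∞) ≤ (m.height : WithBot ℕ∞) := by exact_mod_cast h
    _ ≤ ringKrullDim (B ⧸ p) := Ideal.height_le_ringKrullDim_of_ne_top (Ideal.IsPrime.ne_top inferInstance)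

/-- An element with prime annihilator gives an associated prime of the completion. -/
theorem exists_hat_associated (hJ : J ≠ ⊤) {M : Type u} [AddCommGroup M] [Module B M] [Module.Finite B M]
    (p : Ideal B) [p.IsPrime] (hJp : ¬ J ≤ p) (v : M) (hv : ∀ a : B, a • v = 0 ↔ a ∈ p) :
    ∃ P : PrimeSpectrum (AdicCompletion J B), ¬ J.map (algebraMap B (AdicCompletion J B)) ≤ P.asIdeal ∧
      P.asIdeal ∈ associatedPrimes (AdicCompletion J B) (AdicCompletion J M) ∧
      (Order.coheight P : WithBot ℕ∞) ≤ ringKrullDim (B ⧸ p) := by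
  set C := AdicCompletion J B
  haveI : IsNoetherianRing C := ResExt.isNoetherianRing_adicCompletion J (IsNoetherian.noetherian _)
  let K := p.map (algebraMap B C)
  let o := AdicCompletion.of J M
  -- the annihilator of the image of such an element
  have hann : ∀ w : M, (∀ a : B, a • w = 0 ↔ a ∈ p) → ∀ x : C, x • o w = 0 ↔ x ∈ K := by
    intro w hw x
    let g : B →ₗ[B] M := LinearMap.toSpanSingleton B M w
    have hgker : LinearMap.ker g = p := by
      ext a
      exact hw a
    have hx : ∀ x : C, AdicCompletion.map J g x = x • o w := fun x => by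
      have : x = x • AdicCompletion.of J B (1 : B) := by
        rw [smul_eq_mul]
        exact (mul_one x).symm
      conv_lhs => rw [this]
      rw [map_smul, AdicCompletion.map_of]
      simp [g, o]
    let f : B ⧸ p →ₗ[B] M := p.liftQ g hgker.ge
    have hf : Function.Injective f := LinearMap.ker_eq_bot.1 (Submodule.ker_liftQ_eq_bot' _ _ hgker.symm)
    have hgf : AdicCompletion.map J g x = AdicCompletion.map J f (AdicCompletion.map J p.mkQ x) := by
      rw [AdicCompletion.map_comp_apply]
      rfl
    constructor
    · intro h0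
      rw [← hx, hgf, ← map_zero (AdicCompletion.map J f)] at h0
      have h1 := AdicCompletion.map_injective J hf h0
      obtain ⟨z, hz⟩ := (AdicCompletion.map_exact (I := J) (f := p.subtype) (g := p.mkQ)
        (Submodule.injective_subtype p) (LinearMap.exact_subtype_mkQ p) (Submodule.mkQ_surjective p) x).1 h1
      obtain ⟨t, rfl⟩ := AdicCompletion.ofTensorProduct_surjective_of_finite J p z
      rw [← hz]
      clear hz h1 h0
      induction t using TensorProduct.induction_on with
      | zero => simp
      | add a b ha hb => rw [map_add, map_add]; exact add_mem ha hb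
      | tmul r a =>
        rw [AdicCompletion.ofTensorProduct_tmul, map_smul, AdicCompletion.map_of]
        refine Ideal.mul_mem_left K r ?_
        have : AdicCompletion.of J B (p.subtype a) = algebraMap B C a.1 := rfl
        rw [this]
        exact Ideal.mem_map_of_mem _ a.2
    · intro hx'
      refine Submodule.span_induction (p := fun x _ => x • o w = 0) ?_ (zero_smul _ _) ?_ ?_ hx'
      · rintro _ ⟨a, ha, rfl⟩
        rw [algebraMap_smul, ← map_smul, (hw a).2 ha, map_zero]
      · intro a b _ _ ha hb
        rw [add_smul, ha, hb, add_zero]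
      · intro a b _ hb
        rw [smul_assoc, hb, smul_zero]
  let ι : C ⧸ K →ₗ[C] AdicCompletion J M := Submodule.liftQ K (LinearMap.toSpanSingleton C _ (o v))
    fun x hx => (hann v hv x).2 hx
  have hι : Function.Injective ι := LinearMap.ker_eq_bot.1 (Submodule.ker_liftQ_eq_bot _ _ _ fun x hx =>
    (hann v hv x).1 hx)
  haveI : Nontrivial (C ⧸ K) := by
    refine Ideal.Quotient.nontrivial_iff.2 fun htop => ?_
    have h1 : (1 : C) • o v = 0 := (hann v hv 1).2 (htop ▸ Submodule.mem_top)
    rw [one_smul] at h1
    haveI := IsHausdorff.of_le_jacobson J M ((le_maximalIdeal hJ).trans (maximalIdeal_le_jacobson _))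
    have h2 : (1 : B) • v = 0 := by
      rw [one_smul]
      exact AdicCompletion.of_injective J M (h1.trans (map_zero _).symm)
    exact (Ideal.IsPrime.ne_top inferInstance : p ≠ ⊤) ((Ideal.eq_top_iff_one p).2 ((hv 1).1 h2))
  obtain ⟨P, hP⟩ := associatedPrimes.nonempty C (C ⧸ K)
  obtain ⟨hPp, f, hf⟩ := (isAssociatedPrime_iff_exists_injective_linearMap P (C ⧸ K)).1 hP
  haveI := hPp
  obtain ⟨x, hx⟩ := Ideal.Quotient.mk_surjective (f (Ideal.Quotient.mk P 1))
  have hmem : ∀ r : C, r ∈ P ↔ r * x ∈ K := fun r => by
    rw [← Ideal.Quotient.eq_zero_iff_mem, ← Ideal.Quotient.eq_zero_iff_mem (I := K)]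
    have hr : f (Ideal.Quotient.mk P r) = Ideal.Quotient.mk K (r * x) := by
      have : Ideal.Quotient.mk P r = r • (Ideal.Quotient.mk P 1 : C ⧸ P) := by
        rw [Algebra.smul_def, Ideal.Quotient.algebraMap_eq, ← map_mul, mul_one]
      rw [this, map_smul, ← hx, Algebra.smul_def, Ideal.Quotient.algebraMap_eq, ← map_mul]
    rw [← hr]
    exact (map_eq_zero_iff f hf).symm
  have hxK : x ∉ K := fun h => hPp.ne_top ((Ideal.eq_top_iff_one P).2 ((hmem 1).2 (by rwa [one_mul])))
  refine ⟨⟨P, hPp⟩, fun hle => hJp fun r hr => ?_, ?_, ?_⟩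
  · by_contra hrp
    have hw : ∀ a : B, a • (r • v) = 0 ↔ a ∈ p := fun a => by
      rw [smul_smul, hv]
      exact ⟨fun h => ((‹p.IsPrime›).mem_or_mem h).resolve_right hrp, fun h => p.mul_mem_right r h⟩
    refine hxK ((hann _ hw x).1 ?_)
    rw [map_smul, ← algebraMap_smul C r (o v), smul_smul]
    refine (hann v hv _).2 ?_
    rw [mul_comm]
    exact (hmem _).1 (hle (Ideal.mem_map_of_mem _ hr))
  · exact (isAssociatedPrime_iff_exists_injective_linearMap P _).2 ⟨hPp, ι.comp f, hι.comp hf⟩
  · refine le_trans ?_ (ringKrullDim_quotient_map_le J hJ p)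
    have hKP : K ≤ P := fun k hk => (hmem k).2 (K.mul_mem_right x hk)
    refine le_trans (le_of_eq ?_) (ringKrullDim_le_of_surjective (Ideal.Quotient.factor hKP)
      (Ideal.Quotient.factor_surjective hKP))
    rw [ringKrullDim_quotient, Order.coheight_eq_krullDim_Ici]
    rfl

end Groth.Agent.AlgzUniq
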