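import Groth.Agent.AlgzUniq.Main

/-!
The inequalities only depend on the isomorphism class of the system.
-/

set_option autoImplicit false
set_option linter.style.haveILetI false
set_option maxHeartbeats 1000000
set_option backward.isDefEq.respectTransparency false
set_option backward.isDefEq.respectTransparency.types false
universe u

open CategoryTheory AlgebraicGeometry TopologicalSpace Opposite

noncomputable section

namespace Groth.Agent.AlgzUniq

variable {A : Type u} [CommRing A] {X : Scheme.{u}} [X.Over (Spec (CommRingCat.of A))] (I : Ideal A)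
  {G G' : ℕᵒᵖ ⥤ X.Modules}

/-- The components. -/
abbrev comp' (α : G ⟶ G') (y : X) (n : ℕ) :
    AdicCompletion (Algz.stalkIdeal I y) ((G.obj (op n)).presheaf.stalk y) →ₗ[Algz.hatRing I y]
      AdicCompletion (Algz.stalkIdeal I y) ((G'.obj (op n)).presheaf.stalk y) :=
  AdicCompletion.map (Algz.stalkIdeal I y) (Algz.stalkMapₗ (α.app (op n)) y)

lemma hat_map_mem (α : G ⟶ G') (y : X) (x : Algz.hatStalk I G y) :
    (fun n => comp' I α y n (x.1 n)) ∈ Algz.hatStalk I G' y := fun n => by
  have hsq : (Algz.stalkMapₗ (G'.map (homOfLE (Nat.le_succ n)).op) y).comp (Algz.stalkMapₗ (α.app (op (n + 1))) y) =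
      (Algz.stalkMapₗ (α.app (op n)) y).comp (Algz.stalkMapₗ (G.map (homOfLE (Nat.le_succ n)).op) y) := by
    refine LinearMap.ext fun v => ?_
    refine (AlgzGr.sm_comp _ _ y v).symm.trans (Eq.trans ?_ (AlgzGr.sm_comp _ _ y v))
    exact congrArg (fun f => Algz.stalkMapₗ f y v) (α.naturality _).symm
  have h := congrArg (comp' I α y n) (x.2 n)
  refine Eq.trans ?_ h
  refine (AdicCompletion.map_comp_apply _ _ _ _).trans (Eq.trans ?_ (AdicCompletion.map_comp_apply _ _ _ _).symm)
  rw [hsq]

/-- The map of completed stalks of a map of systems. -/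
def hatMap (α : G ⟶ G') (y : X) : Algz.hatStalk I G y →ₗ[Algz.hatRing I y] Algz.hatStalk I G' y :=
  ((LinearMap.pi fun n => (comp' I α y n).comp (LinearMap.proj n)).comp (Algz.hatStalk I G y).subtype).codRestrict _
    fun x => hat_map_mem I α y x

lemma hatMap_inv (e : G ≅ G') (y : X) (x : Algz.hatStalk I G y) : hatMap I e.inv y (hatMap I e.hom y x) = x := by
  refine Subtype.ext (funext fun n => ?_)
  show comp' I e.inv y n (comp' I e.hom y n (x.1 n)) = x.1 n
  have hid : (Algz.stalkMapₗ (e.inv.app (op n)) y).comp (Algz.stalkMapₗ (e.hom.app (op n)) y) = LinearMap.id :=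
    LinearMap.ext fun v => (AlgzGr.sm_comp _ _ y v).symm.trans
      ((congrArg (fun f => Algz.stalkMapₗ f y v) (e.hom_inv_id_app (op n))).trans (AlgzGr.sm_id y v))
  refine (AdicCompletion.map_comp_apply _ _ _ _).trans ?_
  rw [hid, AdicCompletion.map_id]
  rfl

/-- Isomorphic systems have isomorphic completed stalks. -/
def hatEquiv (e : G ≅ G') (y : X) : Algz.hatStalk I G y ≃ₗ[Algz.hatRing I y] Algz.hatStalk I G' y :=
  LinearEquiv.ofBijective (hatMap I e.hom y)
    ⟨Function.LeftInverse.injective (hatMap_inv I e y),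
      Function.RightInverse.surjective (f := hatMap I e.hom y) (g := hatMap I e.inv y) (hatMap_inv I e.symm y)⟩

theorem depthAt_congr {R : Type u} [CommRing R] (P : PrimeSpectrum R) {M M' : Type u} [AddCommGroup M] [Module R M]
    [AddCommGroup M'] [Module R M'] (e : M ≃ₗ[R] M') : Algz.depthAt P M = Algz.depthAt P M' :=
  LocH.idealDepth_congr (IsLocalizedModule.mapEquiv P.asIdeal.primeCompl
    (LocalizedModule.mkLinearMap P.asIdeal.primeCompl M) (LocalizedModule.mkLinearMap P.asIdeal.primeCompl M')
    (Localization.AtPrime P.asIdeal) e) _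

theorem strictAbIneq_of_iso {U : (Spec (CommRingCat.of A)).Opens} {H H' : ℕᵒᵖ ⥤ (↑U : Scheme.{u}).Modules}
    (e : H ≅ H') {a b : ℕ} (h : Algz.StrictAbIneq A I U H a b) : Algz.StrictAbIneq A I U H' a b := fun y hy P hP => by
  rw [← depthAt_congr P (hatEquiv I e y)]
  exact h y hy P hP

end Groth.Agent.AlgzUniq
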