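import Groth.Agent.AlgzUniq.HatAssoc
import Groth.Agent.AlgzGr.Stalk
import Groth.Agent.W7Exist.Completion
import Groth.Agent.W7Rees.HomLoc
import Groth.Agent.DeltaZ.Basic
import Groth.Agent.HTLib.Boot
import Groth.Agent.FormAlg.FinCoh

/-!
The strict inequalities bound the distance from an associated point to the boundary.
-/

set_option autoImplicit false
set_option maxHeartbeats 1000000
set_option linter.style.haveILetI false
set_option backward.isDefEq.respectTransparency false
set_option backward.isDefEq.respectTransparency.types false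
universe u

open CategoryTheory CategoryTheory.Limits AlgebraicGeometry TopologicalSpace Opposite
open Groth.Agent.WeakAssLib (mgerm mgerm_res mgerm_smul stalkHom_germ)
open Groth.Agent.W7Exist (tn)

noncomputable section

namespace Groth.Agent.AlgzUniq

open Groth.Agent.AlgzGr

section Stalk

variable {A : Type u} [CommRing A] {X : Scheme.{u}} [X.Over (Spec (CommRingCat.of A))]
  [IsLocallyNoetherian X] (I : Ideal A) {F : X.Modules} (hF : Coh.IsCoh F)

include hF in
lemma π_stalk_surjective (n : ℕ) (y : X) : Function.Surjective (Algz.stalkMapₗ (Formal.modPowπ I n F) y) := by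
  intro v
  obtain ⟨U, hyU, s, rfl⟩ := (Formal.modPow I n F).presheaf.exists_germ_eq (x := y) v
  obtain ⟨V, hV, hyV, hVU⟩ := exists_isAffineOpen_mem_and_subset (x := y) (U := U) hyU
  haveI : Epi (Formal.modPowπ I n F) := inferInstanceAs (Epi (cokernel.π _))
  obtain ⟨t, ht⟩ := QC.app_surjective_of_epi hV hF.1 (W7Rees.isQCoh_modQuot F _ hF.1) (Formal.modPowπ I n F)
    (QC.res _ hVU s)
  refine ⟨mgerm _ hyV t, (sm_germ _ hyV t).trans ?_⟩
  exact (congrArg _ ht).trans (mgerm_res _ hVU hyV s)

include hF in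
lemma π_stalk_ker (n : ℕ) (y : X) :
    LinearMap.ker (Algz.stalkMapₗ (Formal.modPowπ I n F) y) =
      Algz.stalkIdeal I y ^ n • (⊤ : Submodule (X.presheaf.stalk y) (F.presheaf.stalk y)) := by
  refine le_antisymm (fun v hv => ?_) ?_
  · obtain ⟨U, hyU, s, rfl⟩ := F.presheaf.exists_germ_eq (x := y) v
    rw [LinearMap.mem_ker] at hv
    have hv' : mgerm (Formal.modPow I n F) hyU ((Formal.modPowπ I n F).app U s) = mgerm (Formal.modPow I n F) hyU 0 :=
      ((sm_germ (Formal.modPowπ I n F) hyU s).symm.trans hv).trans (map_zero _).symm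
    obtain ⟨W, hyW, iU, iU', e⟩ := (Formal.modPow I n F).presheaf.germ_eq y hyU hyU _ _ hv'
    obtain ⟨V, hV, hyV, hVW⟩ := exists_isAffineOpen_mem_and_subset (x := y) (U := W) hyW
    have hVU : V ≤ U := le_trans hVW iU.le
    have h0 : (Formal.modPowπ I n F).app V (QC.res _ hVU s) = 0 := by
      rw [← QC.app_res, ← QC.res_res (Formal.modPow I n F) (show V ≤ W from hVW) iU.le]
      have e' : QC.res (Formal.modPow I n F) iU.le ((Formal.modPowπ I n F).app U s) = 0 := e.trans (map_zero _)
      rw [e', map_zero]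
    rw [W7Rees.π_app_eq_zero_iff I hF.1 hV] at h0
    rw [show F.presheaf.germ U y hyU s = mgerm _ hyV (QC.res _ hVU s) from (mgerm_res _ hVU hyV s).symm]
    refine Submodule.smul_induction_on (p := fun z => mgerm F hyV z ∈ _) h0
      (fun a ha z _ => ?_) (fun a b ha hb => by rw [map_add]; exact add_mem ha hb)
    rw [mgerm_smul]
    refine Submodule.smul_mem_smul ?_ trivial
    rw [← Ideal.map_pow] at ha
    have h := Ideal.mem_map_of_mem (X.presheaf.germ V y hyV).hom ha
    rw [Ideal.map_map] at h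
    rw [Algz.stalkIdeal, ← Ideal.map_pow]
    rwa [show (X.presheaf.germ V y hyV).hom.comp (W7Cech.secRing A V) = Algz.toStalk A X y from
      RingHom.ext fun c => toStalk_germ c hyV] at h
  · refine Submodule.smul_le.2 fun r hr v _ => ?_
    rw [Algz.stalkIdeal, ← Ideal.map_pow] at hr
    rw [LinearMap.mem_ker, map_smul]
    refine Submodule.span_induction (p := fun r _ => r • Algz.stalkMapₗ (Formal.modPowπ I n F) y v = 0)
      ?_ (zero_smul _ _) ?_ ?_ hr
    · rintro _ ⟨b, hb, rfl⟩
      rw [← sm_smulMod, W7Exist.π_smulMod I n F b hb, sm_zero]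
    · intro a b _ _ ha hb
      rw [add_smul, ha, hb, add_zero]
    · intro c a _ ha
      rw [smul_eq_mul, mul_smul, ha, smul_zero]

include hF in
/-- The completed stalk of a completion is the completion of the stalk. -/
theorem exists_hat_linearEquiv (y : X) :
    Nonempty (AdicCompletion (Algz.stalkIdeal I y) (F.presheaf.stalk y) ≃ₗ[Algz.hatRing I y]
      Algz.hatStalk I (Formal.completion I F) y) := by
  have hG := W7Exist.isCohFormal_completion I hF
  let J := Algz.stalkIdeal I y
  let G := Formal.completion I F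
  let θ : ∀ n, F.presheaf.stalk y →ₗ[X.presheaf.stalk y] (G.obj (op n)).presheaf.stalk y := fun n =>
    Algz.stalkMapₗ (Formal.modPowπ I (n + 1) F) y
  have hθ : ∀ n v, Algz.stalkMapₗ (tn G n) y (θ (n + 1) v) = θ n v := fun n v => by
    change Algz.stalkMapₗ (G.map (homOfLE (Nat.le_succ n)).op) y _ = _
    rw [W7Exist.completion_map_succ]
    exact (sm_comp _ _ y v).symm.trans (by rw [Formal.modPowπ_trans])
  have hker : ∀ n, LinearMap.ker (θ n) = J ^ (n + 1) • (⊤ : Submodule (X.presheaf.stalk y) (F.presheaf.stalk y)) := fun n =>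
    π_stalk_ker I hF (n + 1) y
  have hmem : ∀ x, (fun n => AdicCompletion.map J (θ n) x) ∈ Algz.hatStalk I G y := fun x n => by
    show AdicCompletion.map J (Algz.stalkMapₗ (tn G n) y) (AdicCompletion.map J (θ (n + 1)) x) = _
    rw [AdicCompletion.map_comp_apply, show (Algz.stalkMapₗ (tn G n) y).comp (θ (n + 1)) = θ n from
      LinearMap.ext (hθ n)]
  let Φ : AdicCompletion J (F.presheaf.stalk y) →ₗ[Algz.hatRing I y] Algz.hatStalk I G y :=
    (LinearMap.pi fun n => AdicCompletion.map J (θ n)).codRestrict _ hmem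
  have hkilled : ∀ n m, n + 1 ≤ m → J ^ m • (⊤ : Submodule (X.presheaf.stalk y) ((G.obj (op n)).presheaf.stalk y)) = ⊥ := fun n m hm =>
    le_bot_iff.1 ((Submodule.smul_mono_left (Ideal.pow_le_pow_right hm)).trans (stalk_killed hG n y).le)
  have hb : Function.Bijective Φ := by
    refine ⟨(injective_iff_map_eq_zero _).2 fun x hx => AdicCompletion.ext fun k => ?_, fun w => ?_⟩
    · rcases k with _ | n
      · obtain ⟨t, ht⟩ := Submodule.Quotient.mk_surjective _ (x.val 0)
        rw [AdicCompletion.val_zero_apply, ← ht, Submodule.Quotient.mk_eq_zero, pow_zero, Ideal.one_eq_top,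
          Submodule.top_smul]
        trivial
      obtain ⟨t, ht⟩ := Submodule.Quotient.mk_surjective _ (x.val (n + 1))
      have h : LinearMap.reduceModIdeal (J ^ (n + 1)) (θ n) (x.val (n + 1)) = 0 :=
        congrArg (fun z : ↥(Algz.hatStalk I G y) => (z.1 n).val (n + 1)) hx
      rw [← ht, LinearMap.reduceModIdeal_apply] at h
      rw [Submodule.Quotient.mk_eq_zero, hkilled n _ le_rfl, Submodule.mem_bot] at h
      rw [AdicCompletion.val_zero_apply, ← ht, Submodule.Quotient.mk_eq_zero, ← hker]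
      exact h
    · choose g hg using fun n => (of_bijective hG n y).2 (w.1 n)
      have hg' : ∀ n, Algz.stalkMapₗ (tn G n) y (g (n + 1)) = g n := fun n => (of_bijective hG n y).1 (by
        rw [hg n, ← w.2 n, ← hg (n + 1)]
        exact (AdicCompletion.map_of _ _ _).symm)
      choose m hm using fun n => π_stalk_surjective I hF (n + 1) y (g n)
      have hdiff : ∀ j k, j ≤ k → m k - m j ∈ J ^ (j + 1) • (⊤ : Submodule (X.presheaf.stalk y) (F.presheaf.stalk y)) := by
        intro j k hjk
        induction k, hjk using Nat.le_induction with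
        | base => rw [sub_self]; exact zero_mem _
        | succ k hjk ih =>
          have h1 : θ k (m (k + 1) - m k) = 0 := by
            rw [map_sub, ← hθ]
            show Algz.stalkMapₗ (tn G k) y (θ (k + 1) (m (k + 1))) - θ k (m k) = 0
            rw [show θ (k + 1) (m (k + 1)) = g (k + 1) from hm (k + 1), show θ k (m k) = g k from hm k, hg', sub_self]
          have h2 : m (k + 1) - m k ∈ J ^ (j + 1) • (⊤ : Submodule (X.presheaf.stalk y) (F.presheaf.stalk y)) := by
            refine Submodule.smul_mono_left (Ideal.pow_le_pow_right (Nat.succ_le_succ hjk)) ?_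
            show m (k + 1) - m k ∈ J ^ (k + 1) • (⊤ : Submodule (X.presheaf.stalk y) (F.presheaf.stalk y))
            rw [← hker k]
            exact h1
          have := add_mem h2 ih
          rwa [sub_add_sub_cancel] at this
      let a : AdicCompletion.AdicCauchySequence J (F.presheaf.stalk y) := AdicCompletion.AdicCauchySequence.mk J _ m
        fun n => (SModEq.sub_mem.2 (Submodule.smul_mono_left (Ideal.pow_le_pow_right (Nat.le_succ n))
          (hdiff n (n + 1) (Nat.le_succ n)))).symm
      refine ⟨AdicCompletion.mk J _ a, Subtype.ext (funext fun n => ?_)⟩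
      refine Eq.trans ?_ (hg n)
      refine AdicCompletion.ext fun j => ?_
      show LinearMap.reduceModIdeal (J ^ j) (θ n) (Submodule.Quotient.mk (m j)) = Submodule.Quotient.mk (g n)
      rw [LinearMap.reduceModIdeal_apply, Submodule.Quotient.eq, ← hm n]
      show θ n (m j) - θ n (m n) ∈ _
      rw [← map_sub]
      rcases le_total n j with h | h
      · have h1 : θ n (m j - m n) = 0 := LinearMap.mem_ker.1 (by rw [hker]; exact hdiff n j h)
        rw [h1]
        exact zero_mem _
      · have h1 : m j - m n ∈ J ^ j • (⊤ : Submodule (X.presheaf.stalk y) (F.presheaf.stalk y)) := by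
          rw [← neg_sub]
          exact neg_mem (Submodule.smul_mono_left (Ideal.pow_le_pow_right (Nat.le_succ j)) (hdiff j n h))
        have h2 : θ n (m j - m n) ∈ (J ^ j • (⊤ : Submodule (X.presheaf.stalk y) (F.presheaf.stalk y))).map (θ n) :=
          Submodule.mem_map_of_mem h1
        rw [Submodule.map_smul''] at h2
        exact Submodule.smul_mono le_rfl le_top h2
  exact ⟨LinearEquiv.ofBijective Φ hb⟩

include hF in
/-- An element with prime annihilator in a stalk forces depth zero somewhere in the completed stalk. -/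
theorem exists_depth_zero (y : X) (hJ : Algz.stalkIdeal I y ≠ ⊤) (p : Ideal (X.presheaf.stalk y)) [p.IsPrime]
    (hJp : ¬ Algz.stalkIdeal I y ≤ p) (v : F.presheaf.stalk y) (hv : ∀ a, a • v = 0 ↔ a ∈ p) :
    ∃ P : PrimeSpectrum (Algz.hatRing I y), ¬ Algz.hatIdeal I y ≤ P.asIdeal ∧
      Algz.depthAt P (Algz.hatStalk I (Formal.completion I F) y) = 0 ∧
      (Order.coheight P : WithBot ℕ∞) ≤ ringKrullDim (X.presheaf.stalk y ⧸ p) := by
  haveI := RegDual.finite_stalk hF y
  obtain ⟨P, h1, h2, h3⟩ := exists_hat_associated (Algz.stalkIdeal I y) hJ p hJp v hv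
  obtain ⟨e⟩ := exists_hat_linearEquiv I hF y
  haveI : IsNoetherianRing (Algz.hatRing I y) :=
    ResExt.isNoetherianRing_adicCompletion _ (IsNoetherian.noetherian _)
  haveI : Module.Finite (Algz.hatRing I y) (AdicCompletion (Algz.stalkIdeal I y) (F.presheaf.stalk y)) :=
    Module.Finite.of_surjective _ (AdicCompletion.ofTensorProduct_surjective_of_finite _ _)
  haveI : Module.Finite (Algz.hatRing I y) (Algz.hatStalk I (Formal.completion I F) y) := Module.Finite.equiv e
  refine ⟨P, h1, ?_, h3⟩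
  obtain ⟨hPp, f, hf⟩ := (isAssociatedPrime_iff_exists_injective_linearMap _ _).1 h2
  exact LocH.depth_eq_zero_of_associated _
    ((isAssociatedPrime_iff_exists_injective_linearMap _ _).2 ⟨hPp, e.toLinearMap.comp f, e.injective.comp hf⟩)

end Stalk

variable {A : Type u} [CommRing A] [IsNoetherianRing A]

theorem exists_stalk_restrict' {X : Scheme.{u}} (F : X.Modules) (U : X.Opens) (x : U) :
    ∃ e : (F.restrict U.ι).presheaf.stalk x ≃+ F.presheaf.stalk x.1,
      ∀ (r : (U : Scheme.{u}).presheaf.stalk x) (m : (F.restrict U.ι).presheaf.stalk x),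
        e (r • m) = (U.stalkIso x).commRingCatIsoToRingEquiv r • e m := by
  let I : (F.restrict U.ι).presheaf.stalk x ≅ F.presheaf.stalk x.1 :=
    (Scheme.Modules.restrictStalkNatIso U.ι x).app F
  have hI : ∀ (V : (U : Scheme.{u}).Opens) (hx : x ∈ V) (s : Γ(F.restrict U.ι, V)),
      I.addCommGroupIsoToAddEquiv ((F.restrict U.ι).presheaf.germ V x hx s) =
        F.presheaf.germ (U.ι ''ᵁ V) x.1 ⟨x, hx, rfl⟩ s := fun V hx s =>
    congrArg (fun q => q.hom s) (Scheme.Modules.germ_restrictStalkNatIso_hom_app U.ι x F hx)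
  have hσ : ∀ (V : (U : Scheme.{u}).Opens) (hx : x ∈ V) (s : Γ((U : Scheme.{u}), V)),
      (U.stalkIso x).commRingCatIsoToRingEquiv ((U : Scheme.{u}).presheaf.germ V x hx s) =
        X.presheaf.germ (U.ι ''ᵁ V) x.1 ⟨x, hx, rfl⟩ s := fun V hx s =>
    congrArg (fun q => q.hom s) (U.germ_stalkIso_hom x hx)
  refine ⟨I.addCommGroupIsoToAddEquiv, fun r m => ?_⟩
  obtain ⟨V, hV, a, rfl⟩ := TopCat.Presheaf.exists_germ_eq (U : Scheme.{u}).presheaf r
  obtain ⟨W, hW, s, rfl⟩ := TopCat.Presheaf.exists_germ_eq (F.restrict U.ι).presheaf m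
  rw [← TopCat.Presheaf.germ_res_apply _ (homOfLE (inf_le_left : V ⊓ W ≤ V)) x ⟨hV, hW⟩ a,
    ← TopCat.Presheaf.germ_res_apply _ (homOfLE (inf_le_right : V ⊓ W ≤ W)) x ⟨hV, hW⟩ s,
    ← Mero.germ_smul, hσ, hI, hI]
  have hx' : x.1 ∈ U.ι ''ᵁ (V ⊓ W) := ⟨x, ⟨hV, hW⟩, rfl⟩
  have h := Mero.germ_smul F (U.ι ''ᵁ (V ⊓ W)) x.1 hx'
    ((U.ι.appIso (V ⊓ W)).inv ((U : Scheme.{u}).presheaf.map (homOfLE (inf_le_left : V ⊓ W ≤ V)).op a))
    ((F.restrict U.ι).presheaf.map (homOfLE (inf_le_right : V ⊓ W ≤ W)).op s : Γ(F, U.ι ''ᵁ (V ⊓ W)))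
  have hid : (U.ι.appIso (V ⊓ W)).inv ((U : Scheme.{u}).presheaf.map (homOfLE (inf_le_left : V ⊓ W ≤ V)).op a) =
      (U : Scheme.{u}).presheaf.map (homOfLE (inf_le_left : V ⊓ W ≤ V)).op a := by
    rw [Scheme.Opens.ι_appIso]; rfl
  refine Eq.trans ?_ (h.trans (congrArg (fun c => X.presheaf.germ (U.ι ''ᵁ (V ⊓ W)) x.1 hx' c • _) hid))
  rfl

theorem exists_stalk_ann (N : Type u) [AddCommGroup N] [Module A N]
    (U : (Spec (CommRingCat.of A)).Opens) (F : (↑U : Scheme.{u}).Modules)
    (φ : (tilde (R := CommRingCat.of A) (ModuleCat.of A N)).restrict U.ι ≅ F) (p : Ideal A)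
    (hp : p ∈ associatedPrimes A N) (y : U) (hpy : p ≤ (show PrimeSpectrum A from y.1).asIdeal) :
    ∃ (P : Ideal ((↑U : Scheme.{u}).presheaf.stalk y)) (v : F.presheaf.stalk y), P.IsPrime ∧
      P.comap (Algz.toStalk A (↑U : Scheme.{u}) y) = p ∧ (∀ a, a • v = 0 ↔ a ∈ P) ∧
      (∀ a : A, IsUnit (Algz.toStalk A (↑U : Scheme.{u}) y a) → a ∉ (show PrimeSpectrum A from y.1).asIdeal) ∧
      ringKrullDim ((↑U : Scheme.{u}).presheaf.stalk y ⧸ P) =
        Formal2.dimBetween A p (show PrimeSpectrum A from y.1).asIdeal := by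
  let q : PrimeSpectrum A := y.1
  let M := ModuleCat.of A N
  letI : Algebra A ((Spec (CommRingCat.of A)).presheaf.stalk q) := StructureSheaf.stalkAlgebra A q
  haveI : IsLocalization.AtPrime ((Spec (CommRingCat.of A)).presheaf.stalk q) q.asIdeal :=
    StructureSheaf.IsLocalization.to_stalk A q
  letI : Module A ((tilde (R := CommRingCat.of A) M).presheaf.stalk q) :=
    Module.compHom _ (algebraMap A ((Spec (CommRingCat.of A)).presheaf.stalk q))
  haveI : IsScalarTower A ((Spec (CommRingCat.of A)).presheaf.stalk q) ((tilde (R := CommRingCat.of A) M).presheaf.stalk q) :=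
    IsScalarTower.of_algebraMap_smul fun _ _ => rfl
  letI f : N →ₗ[A] (tilde (R := CommRingCat.of A) M).presheaf.stalk q := StructureSheaf.toStalkₗ A N q
  haveI : IsLocalizedModule q.asIdeal.primeCompl f :=
    (inferInstance : IsLocalizedModule q.asIdeal.primeCompl (StructureSheaf.toStalkₗ A N q))
  obtain ⟨hpp, n, hn⟩ := (Submodule.isAssociatedPrime_iff (R := A)).1 hp
  have hn' : ∀ a : A, a • n = 0 ↔ a ∈ p := fun a => by
    rw [hn, Submodule.mem_colon_singleton, Submodule.mem_bot]
  let P₀ := p.map (algebraMap A ((Spec (CommRingCat.of A)).presheaf.stalk q))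
  have hdisj : Disjoint (q.asIdeal.primeCompl : Set A) p :=
    Set.disjoint_left.2 fun a ha hap => ha (hpy hap)
  have hP₀ : P₀.IsPrime := IsLocalization.isPrime_of_isPrime_disjoint q.asIdeal.primeCompl _ p hpp hdisj
  have hcm : P₀.comap (algebraMap A ((Spec (CommRingCat.of A)).presheaf.stalk q)) = p :=
    IsLocalization.comap_map_of_isPrime_disjoint q.asIdeal.primeCompl _ hpp hdisj
  have hv₀ : ∀ a : (Spec (CommRingCat.of A)).presheaf.stalk q, a • f n = 0 ↔ a ∈ P₀ := by
    intro a
    obtain ⟨⟨r, s⟩, hrs⟩ := IsLocalization.surj q.asIdeal.primeCompl a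
    have hu : IsUnit (algebraMap A ((Spec (CommRingCat.of A)).presheaf.stalk q) s.1) := IsLocalization.map_units _ s
    rw [← hu.smul_eq_zero, smul_smul, mul_comm, hrs, algebraMap_smul, ← map_smul,
      IsLocalizedModule.eq_zero_iff q.asIdeal.primeCompl, ← Ideal.mul_unit_mem_iff_mem P₀ hu, hrs,
      ← Ideal.mem_comap, hcm]
    constructor
    · rintro ⟨t, ht⟩
      rw [Submonoid.smul_def, smul_smul, hn'] at ht
      exact (hpp.mem_or_mem ht).resolve_left fun h => t.2 (hpy h)
    · intro hr
      exact ⟨1, by rw [one_smul, hn']; exact hr⟩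
  obtain ⟨e, he⟩ := exists_stalk_restrict' (tilde (R := CommRingCat.of A) M) U y
  let σ' : (↑U : Scheme.{u}).presheaf.stalk y ≃+* (Spec (CommRingCat.of A)).presheaf.stalk q :=
    (U.stalkIso y).commRingCatIsoToRingEquiv
  have hσ : ∀ a : A, σ' (Algz.toStalk A (↑U : Scheme.{u}) y a) =
      algebraMap A ((Spec (CommRingCat.of A)).presheaf.stalk q) a := fun a => by
    refine σ'.eq_symm_apply.1 ?_
    show Algz.toStalk A (↑U : Scheme.{u}) y a = (U.stalkIso y).inv
      (algebraMap A ((Spec (CommRingCat.of A)).presheaf.stalk q) a)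
    rw [Scheme.Opens.stalkIso_inv]
    exact (Scheme.Hom.germ_stalkMap_apply U.ι ⊤ y trivial _).symm
  let i := ((DerSch.stalkFunctor (↑U : Scheme.{u}) y).mapIso φ).toLinearEquiv
  let P := P₀.comap σ'.toRingHom
  haveI : P₀.IsPrime := hP₀
  refine ⟨P, i (e.symm (f n)), Ideal.IsPrime.comap _, ?_, fun a => ?_, fun a ha => ?_, ?_⟩
  · rw [Ideal.comap_comap, show σ'.toRingHom.comp (Algz.toStalk A (↑U : Scheme.{u}) y) =
      algebraMap A ((Spec (CommRingCat.of A)).presheaf.stalk q) from RingHom.ext hσ, hcm]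
  · refine (Eq.congr_left (i.map_smul a (e.symm (f n))).symm).trans
      ((map_eq_zero_iff i i.injective).trans ((map_eq_zero_iff e e.injective).symm.trans ?_))
    rw [he, e.apply_symm_apply]
    exact hv₀ _
  · have hu := ha.map σ'.toRingHom
    rw [show σ'.toRingHom (Algz.toStalk A (↑U : Scheme.{u}) y a) = algebraMap A _ a from hσ a,
      IsLocalization.AtPrime.isUnit_to_map_iff _ q.asIdeal] at hu
    exact hu
  · refine (ringKrullDim_eq_of_ringEquiv (Ideal.quotientEquiv P P₀ σ' ?_)).trans ?_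
    · exact (Ideal.map_comap_of_surjective σ'.toRingHom σ'.surjective P₀).symm
    · refine ringKrullDim_eq_of_ringEquiv (Ideal.quotientEquiv P₀ _
        (IsLocalization.algEquiv q.asIdeal.primeCompl ((Spec (CommRingCat.of A)).presheaf.stalk q)
          (Localization.AtPrime q.asIdeal)).toRingEquiv ?_)
      rw [Ideal.map_map]
      congr 1
      exact (IsLocalization.algEquiv q.asIdeal.primeCompl ((Spec (CommRingCat.of A)).presheaf.stalk q)
        (Localization.AtPrime q.asIdeal)).toAlgHom.comp_algebraMap.symm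

end Groth.Agent.AlgzUniq
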