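import Groth.Agent.AlgzUniq.Components
import Groth.Agent.FormAlg.PunctFormal
import Groth.Agent.S0805
import Groth.Agent.CohQC.QuasiAffine
import Groth.Agent.FibDepth.AB
import Groth.Agent.FibDepth.AssFib

/-!
Formal sections and formal homomorphisms under the strict inequalities.
-/

set_option autoImplicit false
set_option maxHeartbeats 1000000
set_option linter.style.haveILetI false
set_option backward.isDefEq.respectTransparency false
set_option backward.isDefEq.respectTransparency.types false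
universe u

open CategoryTheory CategoryTheory.Limits AlgebraicGeometry TopologicalSpace Opposite
open Groth.Agent.PunctArt (RR)

noncomputable section

namespace Groth.Agent.AlgzUniq

theorem mem_associated_of_depth_zero {A : Type u} [CommRing A] [IsNoetherianRing A] (M : Type u) [AddCommGroup M]
    [Module A M] [Module.Finite A M] (p : Ideal A) [p.IsPrime]
    (h : LocCoh.depth (Localization.AtPrime p) (LocalizedModule p.primeCompl M) = 0) : p ∈ associatedPrimes A M := by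
  haveI : IsNoetherianRing (Localization.AtPrime p) := IsLocalization.isNoetherianRing p.primeCompl _ inferInstance
  have h1 := (FibDepth.isAssociatedPrime_maximalIdeal_iff (LocalizedModule p.primeCompl M)).2 h
  have h2 := AssociatedPrimes.mem_iff.2 h1
  rw [← Module.associatedPrimes.preimage_comap_associatedPrimes_eq_associatedPrimes_of_isLocalizedModule
      p.primeCompl (Localization.AtPrime p) (LocalizedModule.mkLinearMap p.primeCompl M), Set.mem_preimage] at h2
  exact (show Ideal.comap (algebraMap A (Localization.AtPrime p)) (IsLocalRing.maximalIdeal (Localization.AtPrime p)) = p from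
    IsLocalization.AtPrime.under_maximalIdeal (Localization.AtPrime p) p) ▸ h2

section Unit

variable {A : Type u} [CommRing A] {X : Scheme.{u}} [X.Over (Spec (CommRingCat.of A))] (I : Ideal A)

theorem hom_unit_ext {F : X.Modules} {φ φ' : Coh.structureModule X ⟶ F}
    (h : φ.app ⊤ (show Γ(Coh.structureModule X, ⊤) from (1 : Γ(X, ⊤))) = φ'.app ⊤ (show Γ(Coh.structureModule X, ⊤) from (1 : Γ(X, ⊤)))) :
    φ = φ' := by
  refine (SheafOfModules.unitHomEquiv (R := X.ringCatSheaf) F).injective (Subtype.ext (funext fun W => ?_))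
  refine (((SheafOfModules.unitHomEquiv (R := X.ringCatSheaf) F) φ).2 (homOfLE (le_top : W.unop ≤ ⊤)).op).symm.trans
    (Eq.trans ?_ (((SheafOfModules.unitHomEquiv (R := X.ringCatSheaf) F) φ').2 (homOfLE (le_top : W.unop ≤ ⊤)).op))
  exact congrArg _ h

variable {F : X.Modules} (hb : Function.Bijective (Formal.toHHlim I F 0))

include hb in
theorem eq_zero_of_formal (φ : Coh.structureModule X ⟶ F) (h : ∀ n, φ ≫ Formal.modPowπ I (n + 1) F = 0) : φ = 0 := by
  obtain ⟨e, he⟩ := W7Rees.exists_zero_natural (X := X)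
  refine hom_unit_ext ((e F).symm.injective (hb.1 (Subtype.ext (funext fun n => (e _).injective ?_))))
  refine (he _ _ _ _).trans (Eq.trans ?_ (he _ _ _ _).symm)
  rw [AddEquiv.apply_symm_apply, AddEquiv.apply_symm_apply, ← ConcreteCategory.comp_apply,
    ← Scheme.Modules.Hom.comp_app, h n, ← ConcreteCategory.comp_apply, ← Scheme.Modules.Hom.comp_app, zero_comp]

include hb in
theorem exists_of_formal (g : ∀ n, Coh.structureModule X ⟶ Formal.modPow I (n + 1) F)
    (hg : ∀ n, g (n + 1) ≫ Formal.modPowTrans I (n + 1) F = g n) :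
    ∃ φ : Coh.structureModule X ⟶ F, ∀ n, φ ≫ Formal.modPowπ I (n + 1) F = g n := by
  obtain ⟨e, he⟩ := W7Rees.exists_zero_natural (X := X)
  obtain ⟨x, hx⟩ := hb.2 ⟨fun n => (e _).symm ((g n).app ⊤ (show Γ(Coh.structureModule X, ⊤) from (1 : Γ(X, ⊤)))), fun n => (e _).injective (by
    refine (he _ _ _ _).trans ?_
    rw [AddEquiv.apply_symm_apply, AddEquiv.apply_symm_apply, ← ConcreteCategory.comp_apply,
      ← Scheme.Modules.Hom.comp_app, hg n])⟩
  refine ⟨CohQC.secHom (e F x), fun n => hom_unit_ext ?_⟩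
  have h1 := congrArg (e _) (congrFun (congrArg Subtype.val hx) n)
  rw [AddEquiv.apply_symm_apply] at h1
  refine Eq.trans ?_ h1
  refine Eq.trans ?_ (he _ _ _ x).symm
  show (Formal.modPowπ I (n + 1) F).app ⊤ _ = _
  refine congrArg _ ?_
  exact (CohQC.secHom_app_one _ ⊤).trans (QC.res_self _ _ _)

end Unit

variable {A : Type u} [CommRing A] [IsNoetherianRing A] {I 𝔞 : Ideal A} (U : (Spec (CommRingCat.of A)).Opens)
  {F : (↑U : Scheme.{u}).Modules}

theorem RR_zero {M : ModuleCat.{u} A} (hM : ∀ x : M, x = 0) {G : (↑U : Scheme.{u}).Modules} (φ : (RR U).obj M ⟶ G) :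
    φ = 0 := by
  have h : 𝟙 M = 0 := ModuleCat.hom_ext (LinearMap.ext fun x => hM x)
  rw [← Category.id_comp φ, ← (RR U).map_id, h, Functor.map_zero, zero_comp]

/-- Extension and uniqueness from a finite free module. -/
theorem free_formal (hb : Function.Bijective (Formal.toHHlim I F 0)) (m : ℕ) :
    (∀ φ : (RR U).obj (ModuleCat.of A (Fin m → A)) ⟶ F, (∀ n, φ ≫ Formal.modPowπ I (n + 1) F = 0) → φ = 0) ∧
    ∀ g : ∀ n, (RR U).obj (ModuleCat.of A (Fin m → A)) ⟶ Formal.modPow I (n + 1) F,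
      (∀ n, g (n + 1) ≫ Formal.modPowTrans I (n + 1) F = g n) → ∃ φ, ∀ n, φ ≫ Formal.modPowπ I (n + 1) F = g n := by
  let P := (RR U).obj (ModuleCat.of A (Fin m → A))
  let ι : Fin m → (Coh.structureModule (↑U : Scheme.{u}) ⟶ P) := fun i =>
    (FormAlg.RRselfIso U).inv ≫ (RR U).map (ModuleCat.ofHom (LinearMap.single A (fun _ => A) i))
  let π : Fin m → (P ⟶ Coh.structureModule (↑U : Scheme.{u})) := fun i =>
    (RR U).map (ModuleCat.ofHom (LinearMap.proj i)) ≫ (FormAlg.RRselfIso U).hom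
  have hid : 𝟙 P = ∑ i, π i ≫ ι i := by
    simp only [π, ι, Category.assoc, Iso.hom_inv_id_assoc, ← Functor.map_comp]
    rw [← Functor.map_sum]
    refine ((RR U).map_id _).symm.trans (congrArg (RR U).map (ModuleCat.hom_ext (LinearMap.ext fun v => ?_)))
    rw [ModuleCat.hom_sum, LinearMap.sum_apply]
    simp only [ModuleCat.hom_id, LinearMap.id_coe, id_eq, ModuleCat.hom_comp, ModuleCat.hom_ofHom, LinearMap.comp_apply,
      LinearMap.proj_apply, LinearMap.coe_single, Finset.univ_sum_single]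
  have hsplit : ∀ {G : (↑U : Scheme.{u}).Modules} (f : P ⟶ G), f = ∑ i, π i ≫ ι i ≫ f := fun f => by
    conv_lhs => rw [← Category.id_comp f, hid, Preadditive.sum_comp]
    simp only [Category.assoc]
  refine ⟨fun φ h => ?_, fun g hg => ?_⟩
  · rw [hsplit φ]
    refine Finset.sum_eq_zero fun i _ => ?_
    rw [eq_zero_of_formal I hb (ι i ≫ φ) fun n => by rw [Category.assoc, h n, comp_zero], comp_zero]
  · choose φ hφ using fun i => exists_of_formal I hb (fun n => ι i ≫ g n) fun n => by rw [Category.assoc, hg n]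
    refine ⟨∑ i, π i ≫ φ i, fun n => ?_⟩
    rw [hsplit (g n), Preadditive.sum_comp]
    exact Finset.sum_congr rfl fun i _ => by rw [Category.assoc, hφ]

/-- Formal homomorphisms out of a coherent module come from homomorphisms. -/
theorem hom_formal (hb : Function.Bijective (Formal.toHHlim I F 0)) {E : (↑U : Scheme.{u}).Modules} (hE : Coh.IsCoh E)
    (ψ : Formal.completion I E ⟶ Formal.completion I F) :
    ∃! φ : E ⟶ F, ∀ n : ℕ, Formal.modPowπ I (n + 1) E ≫ ψ.app (op n) = φ ≫ Formal.modPowπ I (n + 1) F := by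
  obtain ⟨N, hN, ⟨e⟩⟩ := ZarPair.exists_tilde_restrict (R := CommRingCat.of A) U E hE.1 hE.2
  haveI : Module.Finite A N := hN
  obtain ⟨b, p, hp⟩ := Module.Finite.exists_fin' A N
  obtain ⟨a, q, hq⟩ := Module.Finite.exists_fin' A (LinearMap.ker p)
  let f : ModuleCat.of A (Fin a → A) ⟶ ModuleCat.of A (Fin b → A) := ModuleCat.ofHom ((LinearMap.ker p).subtype.comp q)
  let g' : ModuleCat.of A (Fin b → A) ⟶ N := ModuleCat.ofHom p
  have hfg : f ≫ g' = 0 := ModuleCat.hom_ext (LinearMap.ext fun x => (q x).2)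
  have hex : (ShortComplex.mk f g' hfg).Exact := (ShortComplex.moduleCat_exact_iff _).2 fun x hx => by
    obtain ⟨y, hy⟩ := hq ⟨x, hx⟩
    exact ⟨y, congrArg Subtype.val hy⟩
  haveI : Epi g' := (ModuleCat.epi_iff_surjective _).2 hp
  haveI : Epi ((RR U).map g') := Functor.map_epi _ _
  have hS := hex.map (RR U)
  haveI : Epi ((ShortComplex.mk f g' hfg).map (RR U)).g := inferInstanceAs (Epi ((RR U).map g'))
  let e' : (RR U).obj N ⟶ E := e.hom
  haveI : IsIso e' := inferInstanceAs (IsIso e.hom)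
  have hψ : ∀ n, (Formal.modPowπ I (n + 1 + 1) E ≫ ψ.app (op (n + 1))) ≫ Formal.modPowTrans I (n + 1) F =
      Formal.modPowπ I (n + 1) E ≫ ψ.app (op n) := by
    intro n
    have h := ψ.naturality (homOfLE (Nat.le_succ n)).op
    rw [W7Exist.completion_map_succ, W7Exist.completion_map_succ] at h
    refine (Category.assoc _ _ _).trans ((congrArg (_ ≫ ·) h.symm).trans ?_)
    exact (Category.assoc _ _ _).symm.trans (congrArg (· ≫ ψ.app (op n)) (Formal.modPowπ_trans I (n + 1) E))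
  obtain ⟨χ, hχ⟩ := (free_formal U hb b).2
    (fun n => (RR U).map g' ≫ e' ≫ Formal.modPowπ I (n + 1) E ≫ ψ.app (op n))
    fun n => by
      refine (Category.assoc _ _ _).trans (congrArg (_ ≫ ·) ((Category.assoc _ _ _).trans (congrArg (e' ≫ ·) ?_)))
      exact hψ n
  have hfχ : (RR U).map f ≫ χ = 0 := (free_formal U hb a).1 _ fun n => by
    rw [Category.assoc, hχ, ← Category.assoc, ← Functor.map_comp, hfg, Functor.map_zero, zero_comp]
  obtain ⟨d, hd⟩ : ∃ d, (RR U).map g' ≫ d = χ := ⟨hS.desc χ hfχ, hS.g_desc χ hfχ⟩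
  refine ⟨inv e' ≫ d, fun n => ?_, fun φ hφ => ?_⟩
  · rw [Category.assoc, IsIso.eq_inv_comp, ← cancel_epi ((RR U).map g'), ← Category.assoc ((RR U).map g') d, hd, hχ]
  · rw [IsIso.eq_inv_comp, ← cancel_epi ((RR U).map g'), hd, ← sub_eq_zero]
    refine (free_formal U hb b).1 _ fun n => ?_
    rw [Preadditive.sub_comp, hχ, Category.assoc, Category.assoc, ← hφ n, sub_self]

/-- The stalk condition, in terms of primes. -/
theorem bijective_main [IsAdicComplete I A] {F : (↑(LocCoh.puncturedOpen A 𝔞) : Scheme.{u}).Modules} (hF : Coh.IsCoh F)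
    (hI𝔞 : I ≤ 𝔞) (hω : ∃ ω : Dual.D A, Dual.IsDualizing A ω) {d : ℕ} (hcd : LocCoh.CdLE A I d)
    (h₂ : Algz.StrictAbIneq A I (LocCoh.puncturedOpen A 𝔞) (Formal.completion I F) 1 (1 + d))
    (h₃ : ∀ x : (↑(LocCoh.puncturedOpen A 𝔞) : Scheme.{u}), (∀ r : ↥(Spec (CommRingCat.of A)), (LocCoh.puncturedOpen A 𝔞).ι.base x ⤳ r → r ∈ PrimeSpectrum.zeroLocus (R := A) ↑I → r ∉ (LocCoh.puncturedOpen A 𝔞)) → (2 : ℕ∞) ≤ LocCoh.depth ((↑(LocCoh.puncturedOpen A 𝔞) : Scheme.{u}).presheaf.stalk x) (F.presheaf.stalk x)) :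
    Function.Bijective (Formal.toHHlim I F 0) := by
  obtain ⟨N, hN, ⟨φ⟩⟩ := ZarPair.exists_tilde_restrict (R := CommRingCat.of A) (LocCoh.puncturedOpen A 𝔞) F hF.1 hF.2
  haveI : Module.Finite A N := hN
  refine FormAlg.bijective_toHHlim_congr I φ (FormAlg.bijective_toHHlim_RR I _ (ModuleCat.of A N) ?_)
  refine S0805.result A I 𝔞 hI𝔞 hω d hcd N ?_ ?_
  · intro p hp h𝔞p hIp hr q hq hpq h𝔞q
    exact bound (p := ⟨p, hp.1⟩) (q := ⟨q, hq⟩) hF h₂ φ hp hIp hω hcd hr hI𝔞 hpq h𝔞q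
  · intro p hp h𝔞p hr
    refine (h₃ ⟨⟨p, hp⟩, h𝔞p⟩ fun r hs hrI => fun hrU => hrU ?_).trans
      (FormAlg.depth_stalk_of_iso N _ F φ ⟨⟨p, hp⟩, h𝔞p⟩).le
    exact hr _ r.isPrime ((PrimeSpectrum.le_iff_specializes ⟨p, hp⟩ r).2 hs) hrI

/-- Mixed components force positive depth. -/
theorem one_le_depth [IsAdicComplete I A] {F : (↑(LocCoh.puncturedOpen A 𝔞) : Scheme.{u}).Modules} (hF : Coh.IsCoh F)
    (hω : ∃ ω : Dual.D A, Dual.IsDualizing A ω) {d : ℕ} (hcd : LocCoh.CdLE A I d)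
    (h₂ : Algz.StrictAbIneq A I (LocCoh.puncturedOpen A 𝔞) (Formal.completion I F) 1 (1 + d))
    (x : (↑(LocCoh.puncturedOpen A 𝔞) : Scheme.{u}))
    (C₁ C₂ : Set ↥(closure ({(LocCoh.puncturedOpen A 𝔞).ι.base x} : Set ↥(Spec (CommRingCat.of A))) ∩ PrimeSpectrum.zeroLocus (R := A) ↑I))
    (hC₁ : C₁ ∈ irreducibleComponents _)
    (h₁ : Subtype.val '' C₁ ⊆ PrimeSpectrum.zeroLocus (R := A) ↑𝔞)
    (h₁' : ¬ Subtype.val '' C₂ ⊆ PrimeSpectrum.zeroLocus (R := A) ↑𝔞) :
    (1 : ℕ∞) ≤ LocCoh.depth ((↑(LocCoh.puncturedOpen A 𝔞) : Scheme.{u}).presheaf.stalk x) (F.presheaf.stalk x) := by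
  obtain ⟨N, hN, ⟨φ⟩⟩ := ZarPair.exists_tilde_restrict (R := CommRingCat.of A) (LocCoh.puncturedOpen A 𝔞) F hF.1 hF.2
  haveI : Module.Finite A N := hN
  rw [Order.one_le_iff_ne_zero]
  intro h0
  rw [FormAlg.depth_stalk_of_iso N _ F φ x] at h0
  let p : PrimeSpectrum A := (LocCoh.puncturedOpen A 𝔞).ι.base x
  have hp : p.asIdeal ∈ associatedPrimes A N := mem_associated_of_depth_zero N p.asIdeal h0
  let T := ↥(closure ({(LocCoh.puncturedOpen A 𝔞).ι.base x} : Set ↥(Spec (CommRingCat.of A))) ∩ PrimeSpectrum.zeroLocus (R := A) ↑I)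
  have hpT : ∀ t : T, p ≤ (show PrimeSpectrum A from t.1) := fun t =>
    (PrimeSpectrum.le_iff_specializes _ _).2 (specializes_iff_mem_closure.2 t.2.1)
  have hmkT : ∀ r : PrimeSpectrum A, p ≤ r → I ≤ r.asIdeal → r ∈ closure ({(LocCoh.puncturedOpen A 𝔞).ι.base x} : Set ↥(Spec (CommRingCat.of A))) ∩ PrimeSpectrum.zeroLocus (R := A) ↑I :=
    fun r h h' => ⟨specializes_iff_mem_closure.1 ((PrimeSpectrum.le_iff_specializes _ _).1 h), h'⟩
  obtain ⟨_, ⟨t₂, ht₂, rfl⟩, ht₂'⟩ := Set.not_subset.1 h₁'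
  obtain ⟨t₁, ht₁⟩ := hC₁.1.nonempty
  have hclosed : IsClosed C₁ := isClosed_of_mem_irreducibleComponents C₁ hC₁
  have hIp : ¬ I ≤ p.asIdeal := fun hIp => by
    let t₀ : T := ⟨p, hmkT p le_rfl hIp⟩
    have hirr : IsIrreducible (closure ({t₀} : Set T)) := isIrreducible_singleton.closure
    have hsub : C₁ ⊆ closure ({t₀} : Set T) := fun t _ =>
      specializes_iff_mem_closure.1 ((subtype_specializes_iff _ _).2 ((PrimeSpectrum.le_iff_specializes _ _).1 (hpT t)))
    have ht₀ : t₀ ∈ C₁ := hC₁.2 hirr hsub (subset_closure rfl)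
    exact x.2 (h₁ ⟨t₀, ht₀, rfl⟩)
  haveI : QuasiSober T := (isClosed_closure.inter (PrimeSpectrum.isClosed_zeroLocus _)).isClosedEmbedding_subtypeVal.quasiSober
  obtain ⟨g, hg⟩ := QuasiSober.sober hC₁.1 hclosed
  obtain ⟨w, hw, hwg⟩ := Ideal.exists_minimalPrimes_le
    (sup_le (show p.asIdeal ≤ (show PrimeSpectrum A from g.1).asIdeal from hpT g) g.2.2)
  let tw : T := ⟨⟨w, hw.1.1⟩, hmkT _ (le_sup_left.trans hw.1.2) (le_sup_right.trans hw.1.2)⟩
  have hsub : C₁ ⊆ closure ({tw} : Set T) := by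
    rw [← hg.def]
    refine closure_minimal (Set.singleton_subset_iff.2 ?_) isClosed_closure
    exact specializes_iff_mem_closure.1 ((subtype_specializes_iff _ _).2
      ((PrimeSpectrum.le_iff_specializes _ _).1 (show (⟨w, hw.1.1⟩ : PrimeSpectrum A) ≤ (show PrimeSpectrum A from g.1) from hwg)))
  have htw : tw ∈ C₁ := hC₁.2 isIrreducible_singleton.closure hsub (subset_closure rfl)
  exact not_mem_of_minimal hF h₂ φ hp hIp hω hcd
    ⟨_, (show PrimeSpectrum A from t₂.1).isPrime, hpT t₂, t₂.2.2, ht₂'⟩ hw (h₁ ⟨tw, htw, rfl⟩)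

end Groth.Agent.AlgzUniq
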